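import Cfsg.Agent.KZ.Alt.Two
import Cfsg.Agent.Transfer.TausskyTwoGroup

/-!
# KZ, alternating row: `27 ≤ |P : P'|` for the Sylow `3`-subgroups of `A_n`, `S_n`, `12 ≤ n` (helper30)

The Sylow `3`-subgroup is the wreath product `C₃ ≀ Q` with a Sylow `3`-subgroup `Q` of `S_w`, `w = n / 3`.
-/

set_option autoImplicit false
set_option maxHeartbeats 200000

namespace Cfsg.Agent.KZ.Alt

open Finset Cfsg Equiv

/-- the cyclic group of order `3` -/
abbrev C3 : Type := Multiplicative (ZMod 3)

variable {w : ℕ}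

/-- the wreath product -/
abbrev Wr (Q : Subgroup (Perm (Fin w))) : Type := (Fin w → C3) ⋊[mulAutArrow] Q

theorem wr_left {Q : Subgroup (Perm (Fin w))} (a b : Wr Q) (i : Fin w) :
    (a * b).left i = a.left i * b.left ((a.right : Perm (Fin w))⁻¹ i) := rfl

/-- the imprimitive action -/
@[reducible] def wact (Q : Subgroup (Perm (Fin w))) : MulAction (Wr Q) (Fin w × C3) where
  smul g x := ((g.right : Perm (Fin w)) x.1, g.left ((g.right : Perm (Fin w)) x.1) * x.2)
  one_smul x := by
    show (x.1, 1 * x.2) = x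
    rw [one_mul]
  mul_smul a b x := by
    show (((a.right : Perm (Fin w)) * b.right) x.1, (a * b).left (((a.right : Perm (Fin w)) * b.right) x.1) * x.2) =
      ((a.right : Perm (Fin w)) ((b.right : Perm (Fin w)) x.1),
        a.left ((a.right : Perm (Fin w)) ((b.right : Perm (Fin w)) x.1)) *
          (b.left ((b.right : Perm (Fin w)) x.1) * x.2))
    rw [wr_left, Perm.mul_apply, mul_assoc]
    simp

/-- the permutation representation -/
def act (Q : Subgroup (Perm (Fin w))) : Wr Q →* Perm (Fin w × C3) := @MulAction.toPermHom _ _ _ (wact Q)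

theorem act_apply {Q : Subgroup (Perm (Fin w))} (g : Wr Q) (x : Fin w × C3) :
    act Q g x = ((g.right : Perm (Fin w)) x.1, g.left ((g.right : Perm (Fin w)) x.1) * x.2) := rfl

theorem act_injective (Q : Subgroup (Perm (Fin w))) : Function.Injective (act Q) := by
  rw [injective_iff_map_eq_one]
  intro g hg
  have h1 : ∀ i, ((g.right : Perm (Fin w)) i, g.left ((g.right : Perm (Fin w)) i) * 1) = (i, 1) := fun i => by
    rw [← act_apply g (i, 1), hg]
    rfl
  have h2 : ∀ i, (g.right : Perm (Fin w)) i = i := fun i => congrArg Prod.fst (h1 i)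
  refine SemidirectProduct.ext (funext fun i => ?_) (Subtype.ext (Equiv.ext h2))
  have h3 : g.left ((g.right : Perm (Fin w)) i) * 1 = 1 := congrArg Prod.snd (h1 i)
  rwa [h2, mul_one] at h3

/-- the sum of the coordinates in an invariant set -/
def sumHom (Q : Subgroup (Perm (Fin w))) (s : Finset (Fin w)) (hs : ∀ q ∈ Q, ∀ i, i ∈ s ↔ q i ∈ s) : Wr Q →* C3 where
  toFun g := ∏ i ∈ s, g.left i
  map_one' := Finset.prod_const_one
  map_mul' a b := by
    simp only [wr_left]
    rw [Finset.prod_mul_distrib]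
    congr 1
    exact Finset.prod_equiv ((a.right : Perm (Fin w))⁻¹) (hs _ (Q.inv_mem a.right.2)) fun _ _ => rfl

theorem sumHom_apply {Q : Subgroup (Perm (Fin w))} {s : Finset (Fin w)} (hs : ∀ q ∈ Q, ∀ i, i ∈ s ↔ q i ∈ s)
    (g : Wr Q) : sumHom Q s hs g = ∏ i ∈ s, g.left i := rfl

theorem card_le_index {G B : Type*} [Group G] [Finite G] [CommGroup B] (f : G →* B) (hf : Function.Surjective f) :
    Nat.card B ≤ (commutator G).index := by
  have h1 := Subgroup.index_dvd_of_le (Abelianization.commutator_subset_ker f)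
  rw [Subgroup.index_ker, MonoidHom.range_eq_top.2 hf, Subgroup.card_top] at h1
  exact Nat.le_of_dvd (Nat.pos_of_ne_zero Subgroup.index_ne_zero_of_finite) h1

theorem nine_le_or {G : Type*} [Group G] [Finite G] (hG : IsPGroup 3 G) :
    9 ≤ (commutator G).index ∨ (commutator G).index = Nat.card G := by
  have : Fact (Nat.Prime 3) := ⟨Nat.prime_three⟩
  have : Group.IsNilpotent G := hG.isNilpotent
  obtain ⟨j, hj⟩ := IsPGroup.iff_card.1 (hG.to_quotient (commutator G))
  by_cases h : 2 ≤ j
  · left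
    rw [Subgroup.index, hj]
    calc 9 = 3 ^ 2 := rfl
      _ ≤ _ := Nat.pow_le_pow_right (by norm_num) h
  · right
    have h1 : IsCyclic (G ⧸ commutator G) := by
      have : j = 0 ∨ j = 1 := by omega
      rcases this with rfl | rfl
      · rw [pow_zero] at hj
        have := (Nat.card_eq_one_iff_unique.1 hj).1
        infer_instance
      · rw [pow_one] at hj
        exact isCyclic_of_prime_card (p := 3) hj
    rw [Cfsg.Agent.Transfer.TausskyTwoGroup.commutator_eq_bot_of_isCyclic_quotient h1, Subgroup.index_bot]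

theorem card_C3 : Nat.card C3 = 3 := by simp

theorem finite_wr (Q : Subgroup (Perm (Fin w))) : Finite (Wr Q) := Finite.of_injective _ (act_injective Q)

theorem wr_one {Q : Subgroup (Perm (Fin w))} (i : Fin w) :
    (commutator Q).index * 3 ≤ (commutator (Wr Q)).index := by
  have := finite_wr Q
  have h := card_le_index ((Abelianization.of.comp SemidirectProduct.rightHom).prod
    (sumHom Q univ fun _ _ _ => by simp)) (by
      rintro ⟨q, c⟩
      obtain ⟨q, rfl⟩ : ∃ x, Abelianization.of x = q := QuotientGroup.mk_surjective q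
      refine ⟨⟨Pi.mulSingle i c, q⟩, Prod.ext rfl ?_⟩
      show ∏ j, Pi.mulSingle (M := fun _ => C3) i c j = c
      simp)
  rwa [Nat.card_prod, card_C3] at h

theorem wr_two {Q : Subgroup (Perm (Fin w))} {i j : Fin w} (hij : j ≠ i) (hi : ∀ q ∈ Q, q i = i) :
    (commutator Q).index * (3 * 3) ≤ (commutator (Wr Q)).index := by
  have := finite_wr Q
  have h1 : ∀ q ∈ Q, ∀ k, k ∈ ({i} : Finset (Fin w)) ↔ q k ∈ ({i} : Finset (Fin w)) := by
    intro q hq k
    rw [Finset.mem_singleton, Finset.mem_singleton]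
    conv_rhs => rw [← hi q hq]
    exact q.injective.eq_iff.symm
  have h := card_le_index ((Abelianization.of.comp SemidirectProduct.rightHom).prod
    ((sumHom Q {i} h1).prod (sumHom Q univ fun _ _ _ => by simp))) (by
      rintro ⟨q, c, d⟩
      obtain ⟨q, rfl⟩ : ∃ x, Abelianization.of x = q := QuotientGroup.mk_surjective q
      refine ⟨⟨Pi.mulSingle i c * Pi.mulSingle j (c⁻¹ * d), q⟩, Prod.ext rfl (Prod.ext ?_ ?_)⟩
      · show ∏ k ∈ {i}, (Pi.mulSingle (M := fun _ => C3) i c * Pi.mulSingle (M := fun _ => C3) j (c⁻¹ * d)) k = c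
        simp [Pi.mulSingle_eq_of_ne hij.symm]
      · show ∏ k, (Pi.mulSingle (M := fun _ => C3) i c * Pi.mulSingle (M := fun _ => C3) j (c⁻¹ * d)) k = d
        simp [Finset.prod_mul_distrib])
  rwa [Nat.card_prod, Nat.card_prod, card_C3] at h

theorem card_sylow (Q : Sylow 3 (Perm (Fin w))) :
    Nat.card (Q : Subgroup (Perm (Fin w))) = 3 ^ w.factorial.factorization 3 := by
  have : Fact (Nat.Prime 3) := ⟨Nat.prime_three⟩
  rw [Q.card_eq_multiplicity, Nat.card_perm, Nat.card_fin]

theorem pow_le_card (Q : Sylow 3 (Perm (Fin w))) {k l : ℕ} (hl : l ≤ w) (h : 3 ^ k ∣ l.factorial) :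
    3 ^ k ≤ Nat.card (Q : Subgroup (Perm (Fin w))) := by
  rw [card_sylow]
  exact Nat.pow_le_pow_right (by norm_num) ((Nat.prime_three.pow_dvd_iff_le_factorization
    (Nat.factorial_ne_zero w)).1 (h.trans (Nat.factorial_dvd_factorial hl)))

theorem wr_ge (hw : 4 ≤ w) (Q : Sylow 3 (Perm (Fin w))) :
    27 ≤ (commutator (Wr (Q : Subgroup (Perm (Fin w))))).index := by
  have : Fact (Nat.Prime 3) := ⟨Nat.prime_three⟩
  have h1 := nine_le_or Q.2
  by_cases h : 6 ≤ w
  · have h2 := pow_le_card Q (k := 2) h (by decide)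
    have h3 := wr_one (Q := (Q : Subgroup (Perm (Fin w)))) ⟨0, by omega⟩
    omega
  · have h2 := pow_le_card Q (k := 1) hw (by decide)
    obtain ⟨i, hi⟩ := Q.2.nonempty_fixed_point_of_prime_not_dvd_card (Fin w) (by rw [Nat.card_fin]; omega)
    have : Nontrivial (Fin w) := Fin.nontrivial_iff_two_le.2 (by omega)
    obtain ⟨j, hj⟩ := exists_ne i
    have h3 := wr_two (Q := (Q : Subgroup (Perm (Fin w)))) hj fun q hq => hi ⟨q, hq⟩
    omega

theorem factorization_factorial (n : ℕ) :
    n.factorial.factorization 3 = n / 3 + (n / 3).factorial.factorization 3 := by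
  have : Fact (Nat.Prime 3) := ⟨Nat.prime_three⟩
  rw [Nat.factorization_def _ Nat.prime_three, Nat.factorization_def _ Nat.prime_three]
  conv_lhs => rw [← Nat.div_add_mod n 3]
  rw [padicValNat_factorial_mul_add _ (Nat.mod_lt _ (by norm_num)), padicValNat_factorial_mul, add_comm]

theorem nab_ge {A : Type} [Group A] [Finite A] {n : ℕ} (hn : 12 ≤ n) (φ : A →* Perm (Fin n))
    (hφ : Function.Injective φ) (hA : alternatingGroup (Fin n) ≤ φ.range) (P : Sylow 3 A) : 27 ≤ nab P := by
  have : Fact (Nat.Prime 3) := ⟨Nat.prime_three⟩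
  obtain ⟨Q⟩ : Nonempty (Sylow 3 (Perm (Fin (n / 3)))) := inferInstance
  obtain ⟨e⟩ : Nonempty (Fin (n / 3) × C3 ↪ Fin n) := by
    apply Function.Embedding.nonempty_of_card_le
    simp only [Fintype.card_prod, Fintype.card_fin, Fintype.card_multiplicative, ZMod.card]
    omega
  let ι := (Perm.viaEmbeddingHom e).comp (act (Q : Subgroup (Perm (Fin (n / 3)))))
  have hι : Function.Injective ι := (Perm.viaEmbeddingHom_injective e).comp (act_injective _)
  have hc : Nat.card (Wr (Q : Subgroup (Perm (Fin (n / 3))))) = 3 ^ n.factorial.factorization 3 := by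
    rw [SemidirectProduct.card, card_sylow, Nat.card_fun, card_C3, Nat.card_fin, factorization_factorial n, pow_add]
  have hW : IsPGroup 3 (Wr (Q : Subgroup (Perm (Fin (n / 3))))) := IsPGroup.of_card hc
  have h1 : ∀ g, ι g ∈ φ.range := by
    intro g
    apply hA
    obtain ⟨k, hk⟩ := hW g
    have h2 : Perm.sign (ι g) ^ 3 ^ k = 1 := by rw [← map_pow, ← map_pow, hk, map_one, map_one]
    rw [Perm.mem_alternatingGroup]
    rcases Int.units_eq_one_or (Perm.sign (ι g)) with h | h
    · exact h
    · rw [h, (Odd.pow (by decide : Odd 3)).neg_one_pow] at h2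
      exact absurd h2 (by decide)
  let ψ := (MonoidHom.ofInjective hφ).symm.toMonoidHom.comp (ι.codRestrict φ.range h1)
  have hψ : Function.Injective ψ :=
    (MonoidHom.ofInjective hφ).symm.injective.comp ((MonoidHom.injective_codRestrict _ _ _).2 hι)
  have h2 : IsPGroup 3 ψ.range := hW.of_equiv (MonoidHom.ofInjective hψ)
  obtain ⟨R, hR⟩ := h2.exists_le_sylow
  have h3 : ψ.range = (R : Subgroup A) := by
    refine Subgroup.eq_of_le_of_card_ge hR ?_
    rw [← Nat.card_congr (MonoidHom.ofInjective hψ).toEquiv, hc, R.card_eq_multiplicity]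
    refine Nat.pow_le_pow_right (by norm_num) ?_
    have h4 := Subgroup.card_dvd_of_injective φ hφ
    rw [Nat.card_perm, Nat.card_fin] at h4
    exact (Nat.factorization_le_iff_dvd Nat.card_pos.ne' (Nat.factorial_ne_zero n)).2 h4 3
  rw [nab_eq P R, nab, ← index_commutator_congr ((MonoidHom.ofInjective hψ).trans (MulEquiv.subgroupCongr h3))]
  exact wr_ge (by omega) Q

end Cfsg.Agent.KZ.Alt
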