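import Cfsg.Agent.KZ.Alt.One
import Cfsg.Agent.KZ.Alt.Syl
import Cfsg.Agent.H824.ProdLem

/-!
# KZ: the alternating row (helper30)

`row : ToolOne → Row fun S _ => IsAlternating S`.
-/

set_option autoImplicit false
set_option maxHeartbeats 200000

namespace Cfsg.Agent.KZ.Alt

open Cfsg Equiv

variable {A : Type} [Group A] {N : Subgroup A} {n : ℕ}

theorem exists_aut (h : AS A N) {T : Type} [Group T] (e : N ≃* T) :
    ∃ ρ : A →* MulAut T, Function.Injective ρ ∧ ∀ x : N, ρ x = MulAut.conj (e x) := by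
  have := h.normal
  refine ⟨(MulAut.congr e).toMonoidHom.comp MulAut.conjNormal, ?_, fun x => ?_⟩
  · refine (MulAut.congr e).injective.comp ?_
    rw [injective_iff_map_eq_one]
    intro g hg
    rw [← Subgroup.mem_bot, ← h.cent, Subgroup.mem_centralizer_iff]
    intro x hx
    have h1 : ((MulAut.conjNormal g (⟨x, hx⟩ : N) : N) : A) = x := by rw [hg]; rfl
    rw [MulAut.conjNormal_apply] at h1
    exact (mul_inv_eq_iff_eq_mul.1 h1).symm
  · ext t : 1
    obtain ⟨y, rfl⟩ := e.surjective t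
    have h1 : MulAut.conjNormal (x : A) y = x * y * x⁻¹ := Subtype.ext (by simp)
    show e (MulAut.conjNormal (x : A) (e.symm (e y))) = _
    rw [e.symm_apply_apply, h1, MulAut.conj_apply, map_mul, map_mul, map_inv]

theorem exists_perm (h : AS A N) (e : N ≃* alternatingGroup (Fin n)) (h4 : 4 ≤ n) (h6 : n ≠ 6) :
    ∃ φ : A →* Perm (Fin n), Function.Injective φ ∧ alternatingGroup (Fin n) ≤ φ.range := by
  obtain ⟨ρ, h1, h2⟩ := exists_aut h e
  let c := MulEquiv.ofBijective _ (S2119.result n h4 h6)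
  refine ⟨c.symm.toMonoidHom.comp ρ, c.symm.injective.comp h1, fun a ha => ⟨e.symm ⟨a, ha⟩, ?_⟩⟩
  show c.symm (ρ _) = a
  rw [h2, e.apply_symm_apply, MulEquiv.symm_apply_eq]
  ext t : 2
  show _ = ((MulAut.conjNormal a t : alternatingGroup (Fin n)) : Perm (Fin n))
  rw [MulAut.conjNormal_apply]
  rfl

theorem small_of_dvd [Finite A] {x : A} {k m : ℕ} (hx : orderOf x = 3 ^ k)
    (h : Nat.card (Subgroup.centralizer ({x} : Set A)) ∣ m) (hm : ¬ 3 ^ 3 ∣ m) : Small A := by
  refine ⟨x, ⟨k, hx⟩, ?_⟩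
  by_contra h1
  exact hm (((Nat.prime_three.pow_dvd_iff_le_factorization Nat.card_pos.ne').2 (by omega)).trans h)

theorem small_of_card [Finite A] {m : ℕ} (h : Nat.card A ∣ m) (hm : ¬ 3 ^ 3 ∣ m) : Small A :=
  small_of_dvd (x := 1) (k := 0) orderOf_one ((Subgroup.card_subgroup_dvd_card _).trans h) hm

theorem small_alt [Finite A] (h : AS A N) (e : N ≃* alternatingGroup (Fin n)) (h5 : 5 ≤ n) (h11 : n ≤ 11) :
    Small A := by
  by_cases h6 : n = 6
  · subst h6
    obtain ⟨ρ, h1, -⟩ := exists_aut h e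
    have h2 := Subgroup.card_dvd_of_injective ρ h1
    rw [H824.ProdLem.card_aut_a6] at h2
    exact small_of_card h2 (by decide)
  obtain ⟨φ, h1, h2⟩ := exists_perm h e (by omega) h6
  by_cases h8 : n ≤ 8
  · have h3 := Subgroup.card_dvd_of_injective φ h1
    rw [Nat.card_perm, Nat.card_fin] at h3
    exact small_of_card (h3.trans (Nat.factorial_dvd_factorial h8)) (by decide)
  obtain ⟨g, hg, -⟩ := exists_cyc (n := n) (l := 9) (by norm_num) (by omega)
  have hgA : g ∈ alternatingGroup (Fin n) := by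
    rw [Perm.mem_alternatingGroup, Perm.sign_of_cycleType, hg]
    decide
  obtain ⟨x, rfl⟩ := h2 hgA
  have h3 : (Subgroup.centralizer ({x} : Set A)).map φ ≤ Subgroup.centralizer {φ x} := by
    rintro _ ⟨y, hy, rfl⟩
    rw [Subgroup.mem_centralizer_singleton_iff, ← map_mul, ← map_mul, Subgroup.mem_centralizer_singleton_iff.1 hy]
  have h4 := Subgroup.card_dvd_of_le h3
  rw [Subgroup.card_map_of_injective h1, Perm.nat_card_centralizer, hg, Fintype.card_fin] at h4
  simp only [Multiset.sum_singleton, Multiset.prod_singleton, Multiset.toFinset_singleton, Finset.prod_singleton,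
    Multiset.count_singleton_self, Nat.factorial_one, mul_one] at h4
  refine small_of_dvd (k := 2) ?_ (h4.trans (Nat.mul_dvd_mul_right
    (Nat.factorial_dvd_factorial (show n - 9 ≤ 2 by omega)) 9)) (by decide)
  rw [← orderOf_injective φ h1, ← Perm.lcm_cycleType, hg]
  simp

theorem ten_le [Finite A] {M : Ideal AlgInt} (hM : IsPModular 3 M) (hn : 12 ≤ n) (φ : A →* Perm (Fin n))
    (h : alternatingGroup (Fin n) ≤ φ.range) : 10 ≤ k0 M A := by
  have : Nontrivial (Fin n) := Fin.nontrivial_iff_two_le.2 (by omega)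
  have h1 := Subgroup.index_dvd_of_le h
  rw [alternatingGroup.index_eq_two] at h1
  rcases (Nat.dvd_prime Nat.prime_two).1 h1 with h2 | h2
  · have h3 := k0_le_of_surj hM φ (MonoidHom.range_eq_top.1 (Subgroup.index_eq_one.1 h2))
    have h4 := twenty hM hn
    omega
  · have h3 : alternatingGroup (Fin n) = φ.range := by
      refine Subgroup.eq_of_le_of_card_ge h ?_
      have h4 := Subgroup.card_mul_index φ.range
      have h5 := Subgroup.card_mul_index (alternatingGroup (Fin n))
      rw [h2] at h4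
      rw [alternatingGroup.index_eq_two] at h5
      omega
    refine (ten hM hn).trans (k0_le_of_surj hM (φ.codRestrict _ fun a => h3 ▸ ⟨a, rfl⟩) ?_)
    rintro ⟨a, ha⟩
    obtain ⟨x, rfl⟩ := h ha
    exact ⟨x, rfl⟩

theorem rowUp : RowUp fun S _ => IsAlternating S := by
  rintro M hM A _ _ N h ⟨n, hn, ⟨e⟩⟩ P hP
  by_cases h11 : n ≤ 11
  · exact (small_alt h e hn h11).k0_le hM
  · obtain ⟨φ, h1, h2⟩ := exists_perm h e (by omega) (by omega)
    have h3 := nab_ge (by omega) φ h1 h2 P
    omega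

theorem rowLo : RowLo fun S _ => IsAlternating S := by
  rintro M hM A _ _ N h ⟨n, hn, ⟨e⟩⟩ - P hP
  by_cases h11 : n ≤ 11
  · have h3 := (small_alt h e hn h11).nab_le P
    omega
  · obtain ⟨φ, -, h2⟩ := exists_perm h e (by omega) (by omega)
    exact ten_le hM (by omega) φ h2

/-- **The alternating row.** -/
theorem row (hT : ToolOne) : Row fun S _ => IsAlternating S := Row.of_one hT rowUp rowLo rowOne

end Cfsg.Agent.KZ.Alt
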