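import Cfsg.Agent.KZ.Alt.Tab
import Cfsg.Agent.S2119

/-!
# KZ, alternating row: a nontrivial member of `A_n` fixed by all automorphisms (helper30)
-/

set_option autoImplicit false
set_option maxHeartbeats 200000

namespace Cfsg.Agent.KZ.Alt

open Finset Cfsg Cfsg.Agent.H614 Cfsg.Agent.Characters.Core

variable {M : Ideal AlgInt} {L : ℕ}

theorem res_of (hM : IsPModular 3 M) {n : ℕ} {β : Fin (L + 1) → ℕ} (h : Gd n β) {l : ℕ} (hl : Even l) (h2 : 2 ≤ l)
    (hln : l ≤ n) (hne : FM (l ::ₘ Multiset.replicate (n - l) 1) β ≠ 0) (h1 : FM (Multiset.replicate n 1) β ≠ 1) :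
    ∃ θ : IrrCharacter (alternatingGroup (Fin n)), Mem M θ ∧ Nontriv θ ∧
      ∀ a : alternatingGroup (Fin n), (θ : alternatingGroup (Fin n) → ℂ) a = ch (Fin n) β a := by
  have : Nontrivial (Fin n) := Fin.nontrivial_iff_two_le.2 (by omega)
  obtain ⟨g, hg, hty⟩ := exists_cyc h2 hln
  have hgA : g ∉ alternatingGroup (Fin n) := by
    rw [Equiv.Perm.mem_alternatingGroup, Equiv.Perm.sign_of_cycleType, hg]
    simp only [Multiset.sum_singleton, Multiset.card_singleton]
    rw [(hl.add_one).neg_one_pow]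
    decide
  obtain ⟨θ, h3, h4⟩ := exists_res hM (alternatingGroup (Fin n)) alternatingGroup.index_eq_two (h.mem hM) hgA (by
    show ch (Fin n) β g ≠ 0
    rw [ch_apply, hty]
    exact_mod_cast hne)
  refine ⟨θ, h3, fun h5 => h1 ?_, h4⟩
  have h6 : (θ : alternatingGroup (Fin n) → ℂ) 1 = ch (Fin n) β 1 := h4 1
  rw [h5, ch_apply, ty_one, Fintype.card_fin] at h6
  have h7 : ((FM (Multiset.replicate n 1) β : ℤ) : ℂ) = 1 := h6.symm
  exact_mod_cast h7

theorem one_of (hM : IsPModular 3 M) {n : ℕ} (h4 : 4 ≤ n) (h6 : n ≠ 6) {β : Fin (L + 1) → ℕ} (h : Gd n β) {l : ℕ}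
    (hl : Even l) (h2 : 2 ≤ l) (hln : l ≤ n) (hne : FM (l ::ₘ Multiset.replicate (n - l) 1) β ≠ 0)
    (h1 : FM (Multiset.replicate n 1) β ≠ 1) : One M (alternatingGroup (Fin n)) := by
  obtain ⟨θ, h3, h5, h7⟩ := res_of hM h hl h2 hln hne h1
  refine ⟨θ, h3, h5, fun σ a => ?_⟩
  obtain ⟨s, rfl⟩ := (S2119.result n h4 h6).2 σ
  rw [h7, h7, MulAut.conjNormal_apply]
  exact isIrr_isClassFunction h.irr.2 _ _

theorem one_chk (hM : IsPModular 3 M) {n : ℕ} {β : Fin (2 + 1) → ℕ} {l d : ℕ}
    (h : 4 ≤ n ∧ n ≠ 6 ∧ Chk n β ∧ l % 2 = 0 ∧ 2 ≤ l ∧ l ≤ n ∧ FM (l ::ₘ Multiset.replicate (n - l) 1) β ≠ 0 ∧ d ≠ 1 ∧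
      d * ∏ i, ((β i).factorial : ℤ) = n.factorial * ∏ i, ∏ j ∈ Finset.Ioi i, ((β j : ℤ) - β i)) :
    One M (alternatingGroup (Fin n)) := by
  obtain ⟨h1, h2, h3, h4, h5, h6, h7, h8, h9⟩ := h
  refine one_of hM h1 h2 h3.gd (Nat.even_iff.2 h4) h5 h6 h7 ?_
  rw [← FM_ones_formula n β h3.2.1] at h9
  have h10 : ∏ i, ((β i).factorial : ℤ) ≠ 0 :=
    Finset.prod_ne_zero_iff.2 fun i _ => by exact_mod_cast Nat.factorial_ne_zero _
  rw [← mul_right_cancel₀ h10 h9]
  exact_mod_cast h8

/-- the values of the character of degree `10` of `A₆` -/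
def v6 (k : ℕ) : ℤ := if k = 1 then 10 else if k = 2 then -2 else if k = 3 then 1 else 0

/-- the multiset with given multiplicities of `1, …, 6` -/
def ms (a b c d e f : ℕ) : Multiset ℕ :=
  Multiset.replicate a 1 + Multiset.replicate b 2 + Multiset.replicate c 3 + Multiset.replicate d 4 +
    Multiset.replicate e 5 + Multiset.replicate f 6

theorem ms_val : ∀ (a : Fin 7) (b : Fin 4) (c : Fin 3) (d e f : Fin 2), (ms a b c d e f).sum = 6 →
    Multiset.card (ms a b c d e f) % 2 = 0 → FM (ms a b c d e f) ![1, 2, 6] = v6 (ms a b c d e f).lcm := by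
  decide +kernel

theorem six_val (s : Multiset ℕ) (h1 : ∀ i ∈ s, 0 < i) (h2 : s.sum = 6) (h3 : Multiset.card s % 2 = 0) :
    FM s ![1, 2, 6] = v6 s.lcm := by
  have h4 : s = ms (s.count 1) (s.count 2) (s.count 3) (s.count 4) (s.count 5) (s.count 6) := by
    ext i
    simp only [ms, Multiset.count_add, Multiset.count_replicate]
    by_cases hi : i ∈ s
    · have h5 := h1 i hi
      have h6 := Multiset.le_sum_of_mem hi
      have h7 : i = 1 ∨ i = 2 ∨ i = 3 ∨ i = 4 ∨ i = 5 ∨ i = 6 := by omega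
      rcases h7 with rfl | rfl | rfl | rfl | rfl | rfl <;> simp
    · have h5 := Multiset.count_eq_zero_of_notMem hi
      rw [h5]
      split_ifs <;> subst_vars <;> omega
  generalize s.count 1 = a, s.count 2 = b, s.count 3 = c, s.count 4 = d, s.count 5 = e, s.count 6 = f at h4
  subst h4
  have h5 := h2
  simp only [ms, Multiset.sum_add, Multiset.sum_replicate, smul_eq_mul] at h5
  exact ms_val ⟨a, by omega⟩ ⟨b, by omega⟩ ⟨c, by omega⟩ ⟨d, by omega⟩ ⟨e, by omega⟩ ⟨f, by omega⟩ h2 h3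

theorem lcm_ones (s : Multiset ℕ) (k : ℕ) : (s + Multiset.replicate k 1).lcm = s.lcm := by
  induction k with
  | zero => simp
  | succ k ih => rw [Multiset.replicate_succ, Multiset.add_cons, Multiset.lcm_cons, ih]; simp

theorem ch_six (a : alternatingGroup (Fin 6)) : ch (Fin 6) ![1, 2, 6] a = v6 (orderOf a) := by
  have h1 := six_val (ty (a : Equiv.Perm (Fin 6))) (ty_pos _) (by rw [ty_sum, Fintype.card_fin]) (by
    have h2 := Equiv.Perm.mem_alternatingGroup.1 a.2
    rw [Equiv.Perm.sign_of_cycleType, neg_one_pow_eq_one_iff_even (by decide), Nat.even_iff] at h2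
    have h3 := Equiv.Perm.sum_cycleType_le (a : Equiv.Perm (Fin 6))
    simp only [ty_eq, Multiset.card_add, Multiset.card_replicate, Fintype.card_fin] at h3 ⊢
    omega)
  rw [ch_apply, h1, ty_eq, lcm_ones, Equiv.Perm.lcm_cycleType, Subgroup.orderOf_coe]

theorem one_six (hM : IsPModular 3 M) : One M (alternatingGroup (Fin 6)) := by
  obtain ⟨θ, h3, h5, h7⟩ := res_of hM (n := 6) (L := 2) (β := ![1, 2, 6]) (Chk.gd (by decide +kernel)) (l := 2)
    (by decide) le_rfl (by norm_num) (by decide +kernel) (by decide +kernel)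
  refine ⟨θ, h3, h5, fun σ a => ?_⟩
  rw [h7, h7, ch_six, ch_six, MulEquiv.orderOf_eq]

theorem mono3 {a b c : ℕ} (hab : a < b) (hbc : b < c) : StrictMono (![a, b, c] : Fin (2 + 1) → ℕ) := by
  intro i j hij
  fin_cases i <;> fin_cases j <;> simp_all
  omega

theorem sum3 {n a b c : ℕ} (h : a + b + c = n + 3) :
    ∑ i, (![a, b, c] : Fin (2 + 1) → ℕ) i = n + ∑ i : Fin (2 + 1), (i : ℕ) := by
  simp [Fin.sum_univ_succ]
  omega

theorem res3 (β : Fin (2 + 1) → ℕ) (i : ℕ) : res 3 β i =
    (if β 0 % 3 = i then 1 else 0) + (if β 1 % 3 = i then 1 else 0) + if β 2 % 3 = i then 1 else 0 := by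
  unfold res
  rw [Finset.card_filter, Fin.sum_univ_three]

theorem tv3 (n : ℕ) : tv 2 n = ![0, 1, n + 2] := by
  funext i
  fin_cases i <;> rfl

theorem deg3 {n a b c : ℕ} (h : a + b + c = n + 3) :
    FM (Multiset.replicate n 1) (![a, b, c] : Fin (2 + 1) → ℕ) * (a.factorial * b.factorial * c.factorial) =
      n.factorial * (((b : ℤ) - a) * ((c : ℤ) - a) * ((c : ℤ) - b)) := by
  have h1 := FM_ones_formula n (![a, b, c] : Fin (2 + 1) → ℕ) (sum3 h)
  have h2 : (Finset.Ioi (0 : Fin 3)) = {1, 2} := by decide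
  have h3 : (Finset.Ioi (1 : Fin 3)) = {2} := by decide
  have h4 : (Finset.Ioi (2 : Fin 3)) = ∅ := by decide
  rw [Fin.prod_univ_three, Fin.prod_univ_three, h2, h3, h4, Finset.prod_pair (by decide), Finset.prod_singleton,
    Finset.prod_empty, mul_one] at h1
  exact h1

theorem one_three (hM : IsPModular 3 M) {n a b c : ℕ} (hn : 12 ≤ n) (hab : a < b) (hb : b ≤ 4) (hc : 11 ≤ c)
    (h : a + b + c = n + 3)
    (hcol : ∀ i < 3, (if 0 = i then 1 else 0) + (if 1 = i then 1 else 0) + (if (n + 2) % 3 = i then 1 else 0) =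
      (if a % 3 = i then 1 else 0) + (if b % 3 = i then 1 else 0) + if c % 3 = i then 1 else 0)
    (hd : ∀ d : ℤ, d * (a.factorial * b.factorial * c.factorial) =
      n.factorial * (((b : ℤ) - a) * ((c : ℤ) - a) * ((c : ℤ) - b)) → ¬ 3 ∣ d ∧ d ≠ 1) :
    One M (alternatingGroup (Fin n)) := by
  obtain ⟨h1, h2⟩ := hd _ (deg3 h)
  refine one_of hM (by omega) (by omega) (L := 2) (β := ![a, b, c])
    ⟨mono3 hab (by omega), sum3 h, sameCol_of_lt fun i hi => ?_, h1⟩ (l := 6) (by decide) (by norm_num) (by omega) ?_ h2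
  · rw [tv3, res3, res3]
    exact hcol i hi
  · have h3 : dn (![a, b, c] : Fin (2 + 1) → ℕ) 2 6 = ![a, b, c - 6] := by
      funext i
      fin_cases i <;> rfl
    rw [FM_cons, Fin.sum_univ_three, if_neg (show ¬ 6 ≤ ![a, b, c] 0 from show ¬ 6 ≤ a by omega),
      if_neg (show ¬ 6 ≤ ![a, b, c] 1 from show ¬ 6 ≤ b by omega),
      if_pos (show 6 ≤ ![a, b, c] 2 from show 6 ≤ c by omega), h3, zero_add, zero_add]
    exact (FM_ones_pos _ (mono3 hab (by omega)) (sum3 (by omega))).ne'

theorem fact_ne (n : ℕ) : (n.factorial : ℤ) ≠ 0 := by exact_mod_cast Nat.factorial_ne_zero n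

theorem one_large (hM : IsPModular 3 M) {n : ℕ} (hn : 12 ≤ n) : One M (alternatingGroup (Fin n)) := by
  have h3 : Prime (3 : ℤ) := Int.prime_three
  have hn3 : n % 3 = 0 ∨ n % 3 = 1 ∨ (n % 3 = 2 ∧ n % 9 ≠ 5) ∨ n % 9 = 5 := by omega
  rcases hn3 with h | h | ⟨h, h'⟩ | h
  · refine one_three hM hn (a := 0) (b := 2) (c := n + 1) (by omega) (by omega) (by omega) (by omega) ?_ ?_
    · intro i hi
      split_ifs <;> omega
    · intro d hd
      have h1 : d = (n : ℤ) - 1 := by
        apply mul_left_cancel₀ (a := (2 * ((n : ℤ) + 1)) * n.factorial) (mul_ne_zero (by omega) (fact_ne n))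
        rw [Nat.factorial_succ n, Nat.factorial_zero, Nat.factorial_two] at hd
        push_cast at hd
        linear_combination hd
      omega
  · refine one_three hM hn (a := 0) (b := 3) (c := n) (by omega) (by omega) (by omega) (by omega) ?_ ?_
    · intro i hi
      split_ifs <;> omega
    · intro d hd
      have h1 : 2 * d = (n : ℤ) * (n - 3) := by
        apply mul_left_cancel₀ (a := 3 * (n.factorial : ℤ)) (mul_ne_zero (by omega) (fact_ne n))
        rw [Nat.factorial_zero, show Nat.factorial 3 = 6 from rfl] at hd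
        push_cast at hd
        linear_combination hd
      constructor
      · intro h2
        have h4 := h2.mul_left 2
        rw [h1] at h4
        rcases h3.dvd_or_dvd h4 with h5 | h5 <;> omega
      · rintro rfl
        have : (12 : ℤ) ≤ n := by exact_mod_cast hn
        nlinarith
  · obtain ⟨u, rfl⟩ : ∃ u, n = 3 * u + 4 + 1 := ⟨(n - 5) / 3, by omega⟩
    refine one_three hM hn (a := 0) (b := 4) (c := 3 * u + 4) (by omega) (by omega) (by omega) (by omega) ?_ ?_
    · intro i hi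
      split_ifs <;> omega
    · intro d hd
      have h1 : 2 * d = (3 * (u : ℤ) + 5) * (3 * u + 4) * u := by
        apply mul_left_cancel₀ (a := 12 * ((3 * u + 4).factorial : ℤ)) (mul_ne_zero (by omega) (fact_ne _))
        rw [Nat.factorial_succ (3 * u + 4), Nat.factorial_zero, show Nat.factorial 4 = 24 from rfl] at hd
        push_cast at hd
        linear_combination hd
      constructor
      · intro h2
        have h4 := h2.mul_left 2
        rw [h1] at h4
        rcases h3.dvd_or_dvd h4 with h5 | h5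
        · rcases h3.dvd_or_dvd h5 with h5 | h5 <;> omega
        · omega
      · rintro rfl
        have : (3 : ℤ) ≤ u := by omega
        nlinarith [mul_nonneg (show (0 : ℤ) ≤ u by omega) (show (0 : ℤ) ≤ u by omega)]
  · obtain ⟨u, rfl⟩ : ∃ u, n = 3 * u + 1 + 1 := ⟨(n - 2) / 3, by omega⟩
    refine one_three hM hn (a := 1) (b := 3) (c := 3 * u + 1) (by omega) (by omega) (by omega) (by omega) ?_ ?_
    · intro i hi
      split_ifs <;> omega
    · intro d hd
      have h1 : d = (3 * (u : ℤ) + 2) * (3 * u - 2) * u := by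
        apply mul_left_cancel₀ (a := 6 * ((3 * u + 1).factorial : ℤ)) (mul_ne_zero (by omega) (fact_ne _))
        rw [Nat.factorial_succ (3 * u + 1), Nat.factorial_one, show Nat.factorial 3 = 6 from rfl] at hd
        push_cast at hd
        linear_combination hd
      constructor
      · intro h4
        rw [h1] at h4
        rcases h3.dvd_or_dvd h4 with h5 | h5
        · rcases h3.dvd_or_dvd h5 with h5 | h5 <;> omega
        · omega
      · rintro rfl
        have h2 : (u : ℤ) ∣ 1 := Dvd.intro_left _ h1.symm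
        have h4 := Int.le_of_dvd one_pos h2
        omega

theorem one_alt (hM : IsPModular 3 M) {n : ℕ} (hn : 5 ≤ n) : One M (alternatingGroup (Fin n)) := by
  by_cases h : 12 ≤ n
  · exact one_large hM h
  · have h1 : n = 5 ∨ n = 6 ∨ n = 7 ∨ n = 8 ∨ n = 9 ∨ n = 10 ∨ n = 11 := by omega
    rcases h1 with rfl | rfl | rfl | rfl | rfl | rfl | rfl
    · exact one_chk hM (β := ![1, 3, 4]) (l := 2) (d := 5) (by decide +kernel)
    · exact one_six hM
    · exact one_chk hM (β := ![0, 3, 7]) (l := 6) (d := 14) (by decide +kernel)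
    · exact one_chk hM (β := ![0, 4, 7]) (l := 6) (d := 28) (by decide +kernel)
    · exact one_chk hM (β := ![0, 2, 10]) (l := 6) (d := 8) (by decide +kernel)
    · exact one_chk hM (β := ![0, 3, 10]) (l := 8) (d := 35) (by decide +kernel)
    · exact one_chk hM (β := ![0, 4, 10]) (l := 8) (d := 110) (by decide +kernel)

theorem rowOne : RowOne fun S _ => IsAlternating S := by
  rintro M hM S _ _ - - - ⟨n, hn, ⟨e⟩⟩
  exact one_of_equiv hM e (one_alt hM hn)

end Cfsg.Agent.KZ.Alt
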