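import Cfsg.Agent.KZ.Defs
import Cfsg.Agent.H614.IndexTwo
import Cfsg.Agent.H611.CoverPrincipal
import Cfsg.Agent.H684.BlockTools
import Cfsg.Agent.Blocks.Over
import Cfsg.Agent.S4588

/-!
# KZ, alternating row: general tools (helper30)

* `k0_le_of_surj` : members of a quotient are members;
* `k0_le_two_mul` : `k0 G ≤ 2 * k0 N` for a subgroup of index two;
* `small` : a `3`-element with a small centraliser gives `k0 ≤ 9` and `|P : P'| ≤ 9`;
* `one_of_equiv` : `One` along an isomorphism;
* `exists_res` : a member which does not vanish off a subgroup of index two restricts to a member.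
-/

set_option autoImplicit false
set_option maxHeartbeats 200000

namespace Cfsg.Agent.KZ.Alt

open Finset Cfsg Cfsg.Agent.Characters.Core
open scoped ComplexConjugate commutatorElement

universe u v

variable {M : Ideal AlgInt} {G : Type u} [Group G]

theorem deg_eq {χ : G → ℂ} (hχ : IsIrrCharacter G χ) : χ 1 = (charDegree χ : ℂ) :=
  Blocks.Basic.irr_one_eq_charDegree hχ

theorem mem_infl {H : Type v} [Group H] (hM : IsPModular 3 M) (f : G →* H) (hf : Function.Surjective f)
    {ψ : IrrCharacter H} (h : Mem M ψ) : Mem M (H684.BlockTools.infl f hf ψ) := by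
  refine ⟨H684.BlockTools.infl_mem hM f hf h.1, ?_⟩
  have h1 : charDegree ((H684.BlockTools.infl f hf ψ : IrrCharacter G) : G → ℂ) = charDegree (ψ : H → ℂ) := by
    apply Blocks.Basic.charDegree_of_eq
    show (ψ : H → ℂ) (f 1) = _
    rw [map_one, ← deg_eq ψ.2]
  rw [h1]
  exact h.2

theorem k0_le_of_surj [Finite G] {H : Type v} [Group H] (hM : IsPModular 3 M) (f : G →* H)
    (hf : Function.Surjective f) : k0 M H ≤ k0 M G := by
  have := finite_irr (G := G)
  rw [k0_eq, k0_eq]
  refine Nat.card_le_card_of_injective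
    (fun ψ : {χ : IrrCharacter H // Mem M χ} =>
      (⟨H684.BlockTools.infl f hf ψ.1, mem_infl hM f hf ψ.2⟩ : {χ : IrrCharacter G // Mem M χ})) ?_
  intro a b hab
  exact Subtype.ext (H684.BlockTools.infl_injective f hf (congrArg Subtype.val hab))

theorem exists_under [Finite G] (N : Subgroup G) [Fintype N] {χ : G → ℂ} (hχ : IsIrrCharacter G χ) :
    ∃ θ : IrrCharacter N, classInner (fun n : N => χ n) (θ : N → ℂ) ≠ 0 := by
  by_contra hno
  push Not at hno
  have h1 : IsClassFunction N (fun n : N => χ n) := fun g h => by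
    have := isIrr_isClassFunction hχ (g : G) (h : G)
    simpa using this
  have h2 := classFunction_eq_zero h1 fun ψ hψ => hno ⟨ψ, hψ⟩
  exact isIrr_apply_one_ne_zero hχ (by simpa using congrFun h2 1)

/-- the degree of the induced character -/
theorem sum_over [Fintype G] [Fintype (IrrCharacter G)] (N : Subgroup G) [Fintype N] (θ : IrrCharacter N) :
    ∑ χ : IrrCharacter G, (charDegree (χ : G → ℂ) : ℂ) * classInner (fun n : N => (χ : G → ℂ) n) (θ : N → ℂ) =
      N.index * charDegree (θ : N → ℂ) := by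
  classical
  let f : G → ℂ := fun g => if g = 1 then 1 else 0
  have hf : IsClassFunction G f := by
    intro g h
    simp only [f]
    congr 1
    simp
  have h1 := classFunction_eq_sum hf
  have h2 : (fun n : N => f n) = ∑ χ : IrrCharacter G,
      classInner f (χ : G → ℂ) • (fun n : N => (χ : G → ℂ) n) := by
    funext n
    have := congrFun h1 (n : G)
    rw [this]
    simp only [Finset.sum_apply, Pi.smul_apply]
  have h3 : ∀ χ : IrrCharacter G, classInner f (χ : G → ℂ) = (Nat.card G : ℂ)⁻¹ * charDegree (χ : G → ℂ) := by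
    intro χ
    rw [classInner_def, Finset.sum_eq_single (1 : G)]
    · rw [deg_eq χ.2, Complex.conj_natCast]
      simp [f]
    · intro g _ hg
      simp [f, hg]
    · simp
  have h4 : classInner (fun n : N => f n) (θ : N → ℂ) = (Nat.card N : ℂ)⁻¹ * charDegree (θ : N → ℂ) := by
    rw [classInner_def, Finset.sum_eq_single (1 : N)]
    · rw [deg_eq θ.2, Complex.conj_natCast]
      simp [f]
    · intro g _ hg
      have : (g : G) ≠ 1 := by simpa using hg
      simp [f, this]
    · simp
  rw [h2, classInner_sum_left] at h4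
  simp only [classInner_smul_left, h3, mul_assoc] at h4
  rw [← Finset.mul_sum] at h4
  have hG : (Nat.card G : ℂ) ≠ 0 := card_ne_zero_complex
  have hN : (Nat.card N : ℂ) ≠ 0 := card_ne_zero_complex
  have hc : (Nat.card G : ℂ) = Nat.card N * N.index := by
    rw [← Subgroup.card_mul_index N]; push_cast; rfl
  rw [← mul_right_inj' (inv_ne_zero hG), h4, hc]
  have hi : (N.index : ℂ) ≠ 0 := by
    intro h
    rw [h, mul_zero] at hc
    exact hG hc
  field_simp

theorem deg_two [Finite G] (N : Subgroup G) [N.Normal] [Fintype N] (hN : N.index = 2) {χ : IrrCharacter G}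
    {θ : IrrCharacter N} (h : classInner (fun n : N => (χ : G → ℂ) n) (θ : N → ℂ) ≠ 0) :
    charDegree (χ : G → ℂ) = charDegree (θ : N → ℂ) ∨ charDegree (χ : G → ℂ) = 2 * charDegree (θ : N → ℂ) := by
  have := Fintype.ofFinite G
  rcases H614.restrict_two N hN χ.2 θ.2 h with h1 | ⟨h1, -⟩
  · left
    apply Blocks.Basic.charDegree_of_eq
    rw [← deg_eq θ.2, ← h1 1]
    rfl
  · right
    apply Blocks.Basic.charDegree_of_eq
    rw [h1, deg_eq θ.2]
    push_cast
    rfl

/-- at most two irreducible characters lie over an irreducible character of a subgroup of index two -/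
theorem not_three [Finite G] (N : Subgroup G) [N.Normal] [Fintype N] (hN : N.index = 2) (θ : IrrCharacter N)
    {a b c : IrrCharacter G} (hab : a ≠ b) (hac : a ≠ c) (hbc : b ≠ c)
    (ha : classInner (fun n : N => (a : G → ℂ) n) (θ : N → ℂ) ≠ 0)
    (hb : classInner (fun n : N => (b : G → ℂ) n) (θ : N → ℂ) ≠ 0)
    (hc : classInner (fun n : N => (c : G → ℂ) n) (θ : N → ℂ) ≠ 0) : False := by
  classical
  have := Fintype.ofFinite G
  have := finite_irr (G := G)
  have := Fintype.ofFinite (IrrCharacter G)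
  have h1 := sum_over N θ
  choose e he using fun χ : IrrCharacter G => classInner_isNat
    (Characters.Clifford.isCharacter_restrict N (isIrr_isCharacter χ.2)) (isIrr_isCharacter θ.2)
  have he' : ∀ χ : IrrCharacter G, classInner (fun n : N => (χ : G → ℂ) n) (θ : N → ℂ) = e χ := he
  simp only [he', hN] at h1
  have h2 : ∑ χ : IrrCharacter G, charDegree (χ : G → ℂ) * e χ = 2 * charDegree (θ : N → ℂ) := by
    exact_mod_cast h1
  have h3 : ∀ χ : IrrCharacter G, classInner (fun n : N => (χ : G → ℂ) n) (θ : N → ℂ) ≠ 0 →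
      charDegree (θ : N → ℂ) ≤ charDegree (χ : G → ℂ) * e χ := by
    intro χ h
    have h4 : e χ ≠ 0 := by
      intro h5
      rw [he', h5] at h
      exact h Nat.cast_zero
    have h5 : charDegree (χ : G → ℂ) ≤ charDegree (χ : G → ℂ) * e χ := Nat.le_mul_of_pos_right _ (by omega)
    rcases deg_two N hN h with h6 | h6 <;> omega
  have h4 : ∑ χ ∈ ({a, b, c} : Finset (IrrCharacter G)), charDegree (χ : G → ℂ) * e χ ≤
      ∑ χ : IrrCharacter G, charDegree (χ : G → ℂ) * e χ :=
    Finset.sum_le_sum_of_subset (Finset.subset_univ _)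
  rw [Finset.sum_insert (by simp [hab, hac]), Finset.sum_pair hbc] at h4
  have h5 := Blocks.Basic.charDegree_pos θ.2
  have := h3 a ha
  have := h3 b hb
  have := h3 c hc
  omega

theorem mem_under [Finite G] (hM : IsPModular 3 M) (N : Subgroup G) [N.Normal] [Fintype N] (hN : N.index = 2)
    {χ : IrrCharacter G} (hχ : Mem M χ) {θ : IrrCharacter N}
    (h : classInner (fun n : N => (χ : G → ℂ) n) (θ : N → ℂ) ≠ 0) : Mem M θ := by
  have := Fintype.ofFinite G
  have : Fact (Nat.Prime 3) := ⟨Nat.prime_three⟩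
  refine ⟨H611.CoverPrincipal.mem_principalBlock_of_over 3 hM N χ θ h hχ.1, fun h3 => hχ.2 ?_⟩
  rcases deg_two N hN h with h1 | h1 <;> rw [h1]
  · exact h3
  · exact h3.mul_left 2

theorem k0_le_two_mul [Finite G] (hM : IsPModular 3 M) (N : Subgroup G) [N.Normal] (hN : N.index = 2) :
    k0 M G ≤ 2 * k0 M N := by
  classical
  have := Fintype.ofFinite N
  have := finite_irr (G := G)
  have := finite_irr (G := N)
  have := Fintype.ofFinite {χ : IrrCharacter G // Mem M χ}
  have := Fintype.ofFinite {χ : IrrCharacter N // Mem M χ}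
  choose θ hθ using fun χ : {χ : IrrCharacter G // Mem M χ} => exists_under N χ.1.2
  let f : {χ : IrrCharacter G // Mem M χ} → {χ : IrrCharacter N // Mem M χ} := fun χ =>
    ⟨θ χ, mem_under hM N hN χ.2 (hθ χ)⟩
  rw [k0_eq, k0_eq, Nat.card_eq_fintype_card, Nat.card_eq_fintype_card, ← Finset.card_univ, ← Finset.card_univ]
  refine Finset.card_le_mul_card_image_of_maps_to (f := f) (fun _ _ => Finset.mem_univ _) 2 ?_
  intro b _
  by_contra hcon
  push Not at hcon
  obtain ⟨i, hi, j, hj, k, hk, hij, hik, hjk⟩ := Finset.two_lt_card.1 hcon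
  simp only [Finset.mem_filter, Finset.mem_univ, true_and] at hi hj hk
  have e : ∀ x, f x = b → classInner (fun n : N => (x.1 : G → ℂ) n) (b.1 : N → ℂ) ≠ 0 := by
    rintro x rfl
    exact hθ x
  exact not_three N hN b.1 (fun h => hij (Subtype.ext h)) (fun h => hik (Subtype.ext h))
    (fun h => hjk (Subtype.ext h)) (e i hi) (e j hj) (e k hk)

/-- a member which does not vanish off a subgroup of index two restricts to a member -/
theorem exists_res [Finite G] (hM : IsPModular 3 M) (N : Subgroup G) [N.Normal] (hN : N.index = 2)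
    {χ : IrrCharacter G} (hχ : Mem M χ) {g : G} (hg : g ∉ N) (h : (χ : G → ℂ) g ≠ 0) :
    ∃ θ : IrrCharacter N, Mem M θ ∧ ∀ n : N, (θ : N → ℂ) n = (χ : G → ℂ) n := by
  have := Fintype.ofFinite N
  have := Fintype.ofFinite G
  obtain ⟨θ, hθ⟩ := exists_under N χ.2
  refine ⟨θ, mem_under hM N hN hχ hθ, ?_⟩
  rcases H614.restrict_two N hN χ.2 θ.2 hθ with h1 | ⟨-, h1⟩
  · exact fun n => (h1 n).symm
  · exact absurd (h1 g hg) h

theorem one_of_equiv {S : Type u} {T : Type v} [Group S] [Group T] (hM : IsPModular 3 M) (e : S ≃* T)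
    (h : One M T) : One M S := by
  obtain ⟨α, h1, h2, h3⟩ := h
  refine ⟨H684.BlockTools.infl (e : S →* T) e.surjective α, mem_infl hM _ _ h1, fun h4 => h2 ?_, fun σ s => ?_⟩
  · funext t
    obtain ⟨s, rfl⟩ := e.surjective t
    exact congrFun h4 s
  · have h4 := h3 (e.symm.trans (σ.trans e)) (e s)
    show (α : T → ℂ) (e (σ s)) = (α : T → ℂ) (e s)
    simpa using h4

/-- `|G : G'| ≤ |C(x)|` -/
theorem index_commutator_le [Finite G] (x : G) :
    (commutator G).index ≤ Nat.card (Subgroup.centralizer ({x} : Set G)) := by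
  set C := Subgroup.centralizer ({x} : Set G) with hC
  have h1 : C.index ≤ Nat.card (commutator G) := by
    refine Nat.card_le_card_of_injective (fun q : G ⧸ C =>
      (⟨⁅q.out, x⁆, Subgroup.commutator_mem_commutator (Subgroup.mem_top _) (Subgroup.mem_top _)⟩ :
        commutator G)) ?_
    intro a b hab
    have h2 : ⁅a.out, x⁆ = ⁅b.out, x⁆ := congrArg Subtype.val hab
    rw [← a.out_eq, ← b.out_eq]
    apply QuotientGroup.eq.2
    apply Subgroup.mem_centralizer_singleton_iff.2
    rw [commutatorElement_def, commutatorElement_def, mul_left_inj] at h2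
    calc a.out⁻¹ * b.out * x = a.out⁻¹ * (b.out * x * b.out⁻¹) * b.out := by group
      _ = x * (a.out⁻¹ * b.out) := by rw [← h2]; group
  have h2 := Subgroup.card_mul_index C
  have h3 := Subgroup.card_mul_index (commutator G)
  have h4 : 0 < Nat.card (commutator G) := Nat.card_pos
  refine Nat.le_of_mul_le_mul_left ?_ h4
  rw [h3, ← h2, mul_comm]
  exact Nat.mul_le_mul_right _ h1

/-- a `3`-element with a small centraliser -/
def Small (G : Type u) [Group G] : Prop :=
  ∃ x : G, (∃ k : ℕ, orderOf x = 3 ^ k) ∧ (Nat.card (Subgroup.centralizer ({x} : Set G))).factorization 3 ≤ 2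

theorem Small.k0_le [Finite G] (h : Small G) (hM : IsPModular 3 M) : k0 M G ≤ 9 :=
  haveI : Fact (Nat.Prime 3) := ⟨Nat.prime_three⟩
  S4588.result 3 M hM h

theorem index_commutator_congr {H : Type v} [Group H] (e : G ≃* H) : (commutator G).index = (commutator H).index := by
  rw [← Subgroup.index_map_equiv (commutator G) e, map_commutator_eq, MonoidHom.range_eq_top.2 e.surjective]
  rfl

theorem nab_eq [Finite G] (P Q : Sylow 3 G) : nab P = nab Q :=
  haveI : Fact (Nat.Prime 3) := ⟨Nat.prime_three⟩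
  index_commutator_congr (Sylow.equiv P Q)

theorem Small.nab_le [Finite G] (h : Small G) (P : Sylow 3 G) : nab P ≤ 9 := by
  have : Fact (Nat.Prime 3) := ⟨Nat.prime_three⟩
  obtain ⟨x, ⟨k, hk⟩, h2⟩ := h
  have h1 : IsPGroup 3 (Subgroup.zpowers x) := IsPGroup.of_card (by rw [Nat.card_zpowers, hk])
  obtain ⟨Q, hQ⟩ := h1.exists_le_sylow
  rw [nab_eq P Q]
  have hx : x ∈ (Q : Subgroup G) := hQ (Subgroup.mem_zpowers x)
  refine (index_commutator_le (⟨x, hx⟩ : (Q : Subgroup G))).trans ?_
  set C := Subgroup.centralizer ({⟨x, hx⟩} : Set (Q : Subgroup G)) with hC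
  obtain ⟨j, hj⟩ := IsPGroup.iff_card.1 (Q.2.to_subgroup C)
  have h3 : C.map (Q : Subgroup G).subtype ≤ Subgroup.centralizer ({x} : Set G) := by
    rintro _ ⟨y, hy, rfl⟩
    rw [Subgroup.mem_centralizer_singleton_iff]
    exact congrArg Subtype.val (Subgroup.mem_centralizer_singleton_iff.1 hy)
  have h4 := Subgroup.card_dvd_of_le h3
  rw [Subgroup.card_map_of_injective (Subgroup.subtype_injective _), hj] at h4
  have h5 := (Nat.prime_three.pow_dvd_iff_le_factorization Nat.card_pos.ne').1 h4
  rw [hj]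
  calc 3 ^ j ≤ 3 ^ 2 := Nat.pow_le_pow_right (by norm_num) (by omega)
    _ = 9 := rfl

end Cfsg.Agent.KZ.Alt
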